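import Groth.Prelude.Def_W4c5normfunctorschNorm
import Mathlib.LinearAlgebra.PiTensorProduct.Basis
import Mathlib.LinearAlgebra.Alternating.Basic
import Mathlib.Algebra.Module.Projective
import Mathlib.RingTheory.Finiteness.Basic

/-!
`SymTen.altSpan`: the alternating map to the quotient, and tensors fixed by a transposition lie in it
(for a finite projective module).
-/

universe u

open scoped TensorProduct

namespace AltSpanLib

variable (R : Type u) [CommRing R] (P : Type u) [AddCommGroup P] [Module R P] (d : ℕ)

/-- The alternating map `P^d → (⨂ P) ⧸ altSpan`. -/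
noncomputable def toQuot :
    P [⋀^Fin d]→ₗ[R] ((⨂[R] _ : Fin d, P) ⧸ SymTen.altSpan R (P := P) d) where
  toMultilinearMap :=
    (SymTen.altSpan R (P := P) d).mkQ.compMultilinearMap (PiTensorProduct.tprod R)
  map_eq_zero_of_eq' v i j h hij :=
    (Submodule.Quotient.mk_eq_zero _).2 (Submodule.subset_span ⟨v, i, j, hij, h, rfl⟩)

lemma toQuot_apply (v : Fin d → P) :
    toQuot R P d v = (SymTen.altSpan R (P := P) d).mkQ (PiTensorProduct.tprod R v) := rfl

variable {R P d}

lemma mem_altSpan_of_swap_of_basis {n : ℕ} (b : Module.Basis (Fin n) R P) {i j : Fin d}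
    (hij : i ≠ j) (y : ⨂[R] _ : Fin d, P)
    (hy : PiTensorProduct.reindex R (fun _ : Fin d => P) (Equiv.swap i j) y = y) :
    y ∈ SymTen.altSpan R (P := P) d := by
  classical
  set E := Basis.piTensorProduct (fun _ : Fin d => b)
  have hE : ∀ f, E f = PiTensorProduct.tprod R (fun a => b (f a)) := fun f =>
    Basis.piTensorProduct_apply _ f
  set τ : Equiv.Perm (Fin d) := Equiv.swap i j
  have hτ : ∀ f, PiTensorProduct.reindex R (fun _ : Fin d => P) τ (E f) = E (fun a => f (τ a)) := by
    intro f
    rw [hE, hE, PiTensorProduct.reindex_tprod]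
    simp [τ]
  have hc : ∀ f, E.repr y (fun a => f (τ a)) = E.repr y f := by
    intro f
    conv_lhs => rw [← hy, ← E.sum_repr y]
    simp only [map_sum, map_smul, hτ, Finsupp.coe_finset_sum, Finset.sum_apply, Finsupp.smul_apply,
      Module.Basis.repr_self, Finsupp.single_apply, smul_eq_mul]
    rw [Finset.sum_eq_single f]
    · simp
    · intro g _ hg
      rw [if_neg, mul_zero]
      intro h
      exact hg (funext fun a => by simpa [τ] using congrFun h (τ a))
    · simp
  rw [← Submodule.Quotient.mk_eq_zero (SymTen.altSpan R (P := P) d), ← Submodule.mkQ_apply,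
    ← E.sum_repr y, map_sum]
  refine Finset.sum_involution (fun f _ => fun a => f (τ a)) ?_ ?_ (fun _ _ => Finset.mem_univ _)
    (fun f _ => funext fun a => by simp [τ])
  · intro f _
    have hswap : toQuot R P d ((fun a => b (f a)) ∘ τ) = -toQuot R P d (fun a => b (f a)) :=
      (toQuot R P d).map_swap _ hij
    rw [map_smul, map_smul, hc, hE, hE, ← toQuot_apply, ← toQuot_apply]
    rw [show (fun a => b (f (τ a))) = (fun a => b (f a)) ∘ τ from rfl, hswap, smul_neg,
      add_neg_cancel]
  · intro f _ hne h
    apply hne
    rw [map_smul, hE, ← toQuot_apply, (toQuot R P d).map_eq_zero_of_eq _ (i := i) (j := j) ?_ hij,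
      smul_zero]
    have := congrFun h i
    simp only [τ, Equiv.swap_apply_left] at this
    rw [this]

lemma map_reindex_comm {Q : Type u} [AddCommGroup Q] [Module R Q] (g : P →ₗ[R] Q)
    (σ : Equiv.Perm (Fin d)) (y : ⨂[R] _ : Fin d, P) :
    PiTensorProduct.map (fun _ : Fin d => g) (PiTensorProduct.reindex R (fun _ : Fin d => P) σ y) =
      PiTensorProduct.reindex R (fun _ : Fin d => Q) σ (PiTensorProduct.map (fun _ : Fin d => g) y) := by
  induction y using PiTensorProduct.induction_on with
  | smul_tprod r g => simp [PiTensorProduct.reindex_tprod, PiTensorProduct.map_tprod]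
  | add x y hx hy => simp [hx, hy]

/-- A tensor fixed by a transposition of two factors lies in `altSpan`. -/
theorem mem_altSpan_of_swap [Module.Finite R P] [Module.Projective R P] {i j : Fin d} (hij : i ≠ j)
    (y : ⨂[R] _ : Fin d, P)
    (hy : PiTensorProduct.reindex R (fun _ : Fin d => P) (Equiv.swap i j) y = y) :
    y ∈ SymTen.altSpan R (P := P) d := by
  obtain ⟨n, s, hs⟩ := Module.Finite.exists_fin' R P
  obtain ⟨ι, hι⟩ := Module.projective_lifting_property s LinearMap.id hs
  set z := PiTensorProduct.map (fun _ : Fin d => ι) y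
  have hz : z ∈ SymTen.altSpan R (P := Fin n → R) d :=
    mem_altSpan_of_swap_of_basis (Pi.basisFun R (Fin n)) hij z (by rw [← map_reindex_comm, hy])
  have hback : PiTensorProduct.map (fun _ : Fin d => s) z = y := by
    have : (PiTensorProduct.map (fun _ : Fin d => s)).comp (PiTensorProduct.map (fun _ : Fin d => ι)) =
        LinearMap.id := by
      rw [← PiTensorProduct.map_comp]
      simp only [hι, PiTensorProduct.map_id]
    exact LinearMap.congr_fun this y
  rw [← hback]
  refine (Submodule.map_span_le _ _ _).2 ?_ (Submodule.mem_map_of_mem hz)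
  rintro _ ⟨v, a, c, hac, hv, rfl⟩
  exact Submodule.subset_span ⟨fun k => s (v k), a, c, hac, by simp [hv],
    PiTensorProduct.map_tprod _ _⟩

section Act

variable {A : Type u} [CommRing A] [Algebra R A] [Module A P] [IsScalarTower R A P]

lemma tpowAct_tprod (a : Fin d → A) (p : Fin d → P) :
    SymTen.tpowAct R A P d (PiTensorProduct.tprod R a) (PiTensorProduct.tprod R p) =
      PiTensorProduct.tprod R (fun i => a i • p i) := by
  simp [SymTen.tpowAct]

lemma tpowAct_mul (a a' : ⨂[R] _ : Fin d, A) :
    SymTen.tpowAct R A P d (a * a') = SymTen.tpowAct R A P d a * SymTen.tpowAct R A P d a' := by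
  induction a using PiTensorProduct.induction_on with
  | add x y hx hy => simp [add_mul, hx, hy]
  | smul_tprod r f =>
    induction a' using PiTensorProduct.induction_on with
    | add x y hx hy => simp only [mul_add, map_add, hx, hy]
    | smul_tprod r' f' =>
      simp only [map_smul, smul_mul_assoc, mul_smul_comm, PiTensorProduct.tprod_mul_tprod]
      congr 2
      refine PiTensorProduct.ext (MultilinearMap.ext fun p => ?_)
      simp [tpowAct_tprod, Pi.mul_apply, mul_smul]

lemma tpowAct_one : SymTen.tpowAct R A P d 1 = 1 := by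
  refine PiTensorProduct.ext (MultilinearMap.ext fun p => ?_)
  simp [PiTensorProduct.one_def, tpowAct_tprod]

lemma reindex_tpowAct (σ : Equiv.Perm (Fin d)) (a : ⨂[R] _ : Fin d, A) (x : ⨂[R] _ : Fin d, P) :
    PiTensorProduct.reindex R (fun _ : Fin d => P) σ (SymTen.tpowAct R A P d a x) =
      SymTen.tpowAct R A P d (PiTensorProduct.reindex R (fun _ : Fin d => A) σ a)
        (PiTensorProduct.reindex R (fun _ : Fin d => P) σ x) := by
  induction a using PiTensorProduct.induction_on with
  | add a b ha hb => simp [ha, hb]
  | smul_tprod r f =>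
    induction x using PiTensorProduct.induction_on with
    | add a b ha hb => simp only [map_add, ha, hb]
    | smul_tprod r' p => simp [tpowAct_tprod, PiTensorProduct.reindex_tprod]

theorem tpowAct_mem_altSpan [Module.Finite R P] [Module.Projective R P]
    (a : ⨂[R] _ : Fin d, A) (ha : a ∈ SymTen.TS R A d)
    (x : ⨂[R] _ : Fin d, P) (hx : x ∈ SymTen.altSpan R (P := P) d) :
    SymTen.tpowAct R A P d a x ∈ SymTen.altSpan R (P := P) d := by
  induction hx using Submodule.span_induction with
  | mem x hx =>
    obtain ⟨p, i, j, hij, hp, rfl⟩ := hx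
    refine mem_altSpan_of_swap hij _ ?_
    rw [reindex_tpowAct, ha, PiTensorProduct.reindex_tprod]
    congr 2
    funext k
    simp only [Equiv.symm_swap, Equiv.swap_apply_def]
    split_ifs with h1 h2
    · rw [h1, hp]
    · rw [h2, hp]
    · rfl
  | zero => simp
  | add x y _ _ hx hy => rw [map_add]; exact add_mem hx hy
  | smul r x _ hx => rw [map_smul]; exact Submodule.smul_mem _ r hx

end Act

end AltSpanLib
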